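import Cfsg.Agent.J1Orders.Pack
import Cfsg.Agent.J1Orders.Data

/-! The table checks for the first Janko group, run by the kernel. -/

set_option autoImplicit false

namespace CfsgLib.J1Orders
open CfsgLib.Coset

noncomputable def Hc (i : Nat) : Nat := hTab.get i
noncomputable def Rc (j : Nat) : Nat := repTab.get j
noncomputable def cosC (c : Nat) : Nat :=
  mulC (Rc (field (rInfoTab.get c) 0)) (Hc (field (rInfoTab.get c) 1))

noncomputable def band (b c : Bool) : Bool := cond b c false

theorem band_iff {b c : Bool} : band b c = true ↔ b = true ∧ c = true := cond_false_eq_true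

theorem natBeq_iff {a b : Nat} : Nat.beq a b = true ↔ a = b :=
  ⟨Nat.eq_of_beq_eq_true, fun h => h ▸ Nat.beq_refl a⟩

noncomputable def powC (A n : Nat) : Nat := Nat.rec oneC (fun _ r => mulC r A) n

noncomputable def chkClose (i : Nat) : Bool :=
  band (band (Nat.blt (field (htsTab.get i) 0) 660)
      (Nat.beq (mulC (Hc i) aC) (Hc (field (htsTab.get i) 0))))
    (band (Nat.blt (field (htsTab.get i) 1) 660)
      (Nat.beq (mulC (Hc i) bC) (Hc (field (htsTab.get i) 1))))

noncomputable def chkPar (i : Nat) : Bool :=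
  cond (Nat.beq i 0) (Nat.beq (Hc i) oneC)
    (band (Nat.blt (field (parTab.get i) 0) i)
      (Nat.beq (Hc i) (mulC (Hc (field (parTab.get i) 0))
        (cond (Nat.beq (field (parTab.get i) 1) 0) aC bC))))

noncomputable def chkCoset (c : Nat) : Bool :=
  band (band (Nat.blt (field (rInfoTab.get c) 0) 5) (Nat.blt (field (rInfoTab.get c) 1) 660))
    (band
      (band (band (Nat.blt (field (transTab.get c) 0) 266) (Nat.blt (field (transTab.get c) 1) 660))
        (Nat.beq (mulC (cosC c) xC)
          (mulC (Hc (field (transTab.get c) 1)) (cosC (field (transTab.get c) 0)))))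
      (band (band (Nat.blt (field (transTab.get c) 2) 266) (Nat.blt (field (transTab.get c) 3) 660))
        (Nat.beq (mulC (cosC c) yC)
          (mulC (Hc (field (transTab.get c) 3)) (cosC (field (transTab.get c) 2))))))

noncomputable def okOrd (o : Nat) : Bool :=
  [1, 2, 3, 5, 6, 7, 10, 11, 15, 19].any (fun d => Nat.beq o d)

noncomputable def chkOrd (i : Nat) : Bool :=
  allBelow 3 5 (fun j =>
    band (okOrd (field (ordTab.get i) j))
      (Nat.beq (powC (mulC (Rc j) (Hc i)) (field (ordTab.get i) j)) oneC))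

theorem close_all : allBelow 10 660 chkClose = true := by decide +kernel
theorem par_all : allBelow 10 660 chkPar = true := by decide +kernel
theorem coset_all : allBelow 9 266 chkCoset = true := by decide +kernel
theorem ord_all : allBelow 10 660 chkOrd = true := by decide +kernel
theorem start_ok : band (Nat.beq (mulC (Hc 0) (cosC 0)) oneC)
    (band (Nat.beq (mulC oneC oneC) oneC) (Nat.beq (Rc 0) oneC)) = true := by decide +kernel

theorem close_ok {i : Nat} (h : i < 660) :
    (∃ t, t < 660 ∧ mulC (Hc i) aC = Hc t) ∧ ∃ t, t < 660 ∧ mulC (Hc i) bC = Hc t := by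
  have := of_allBelow close_all i h
  simp only [chkClose, band_iff, Nat.blt_eq, natBeq_iff] at this
  exact ⟨⟨_, this.1.1, this.1.2⟩, ⟨_, this.2.1, this.2.2⟩⟩

theorem par_ok {i : Nat} (h : i < 660) :
    Hc i = oneC ∨ ∃ p, p < i ∧ (Hc i = mulC (Hc p) aC ∨ Hc i = mulC (Hc p) bC) := by
  have := of_allBelow par_all i h
  unfold chkPar at this
  cases hc : Nat.beq i 0
  · simp only [hc, cond_false, band_iff, Nat.blt_eq, natBeq_iff] at this
    refine Or.inr ⟨_, this.1, ?_⟩
    have h2 := this.2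
    cases hg : Nat.beq (field (parTab.get i) 1) 0
    · rw [hg] at h2; exact Or.inr h2
    · rw [hg] at h2; exact Or.inl h2
  · simp only [hc, cond_true, natBeq_iff] at this
    exact Or.inl this

theorem coset_ok {c : Nat} (h : c < 266) :
    (∃ j k, j < 5 ∧ k < 660 ∧ cosC c = mulC (Rc j) (Hc k)) ∧
    (∃ t w, t < 266 ∧ w < 660 ∧ mulC (cosC c) xC = mulC (Hc w) (cosC t)) ∧
    ∃ t w, t < 266 ∧ w < 660 ∧ mulC (cosC c) yC = mulC (Hc w) (cosC t) := by
  have := of_allBelow coset_all c h
  simp only [chkCoset, band_iff, Nat.blt_eq, natBeq_iff] at this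
  obtain ⟨⟨h1, h2⟩, ⟨⟨h3, h4⟩, h5⟩, ⟨⟨h6, h7⟩, h8⟩⟩ := this
  exact ⟨⟨_, _, h1, h2, rfl⟩, ⟨_, _, h3, h4, h5⟩, ⟨_, _, h6, h7, h8⟩⟩

theorem ord_ok {i j : Nat} (hi : i < 660) (hj : j < 5) :
    ∃ o, o ∈ [1, 2, 3, 5, 6, 7, 10, 11, 15, 19] ∧ powC (mulC (Rc j) (Hc i)) o = oneC := by
  have := of_allBelow ord_all i hi
  have := of_allBelow this j hj
  simp only [band_iff, okOrd, List.any_eq_true, natBeq_iff] at this
  obtain ⟨⟨d, hd, e⟩, h2⟩ := this
  exact ⟨_, e ▸ hd, h2⟩

end CfsgLib.J1Orders
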