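import Cfsg.Prelude.Def_Spor_J1
import Cfsg.Agent.J1Orders.Check

/-!
# The element orders of the first Janko group

`Cfsg.Spor.J1 ≤ GL(7, 11)` is covered by 266 right cosets of a subgroup of order 660, split into
five double cosets; every element is conjugate to an element of one of five fixed cosets, whose
orders are read off.
-/

set_option autoImplicit false

namespace CfsgLib.J1Orders
open Cfsg CfsgLib.Coset

abbrev GG := GL (Fin 7) (ZMod 11)

/-- The code of a group element. -/
def code (g : GG) : ℕ := enc (g : Mat)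

theorem code_mul (g h : GG) : code (g * h) = mulC (code g) (code h) := by
  rw [code, code, code, mulC_enc, Units.val_mul]

theorem code_injective : Function.Injective code := fun g h e => Units.ext (enc_injective e)

theorem enc_one : enc (1 : Mat) = oneC := by decide +kernel

theorem code_one : code 1 = oneC := by rw [code, Units.val_one, enc_one]

theorem code_pow (g : GG) : ∀ n, code (g ^ n) = powC (code g) n
  | 0 => by rw [pow_zero, code_one]; rfl
  | n+1 => by rw [pow_succ, code_mul, code_pow g n]; rfl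

/-- Decoding. -/
def dec (C : ℕ) : Mat := fun i j => ((C / 2 ^ (24 * (7 * (i : ℕ) + j)) % 2 ^ 24 : ℕ) : ZMod 11)

/-- The unit with code `C` and inverse of code `CT`. -/
def mkU (C CT : ℕ) (hC : enc (dec C) = C) (hT : enc (dec CT) = CT)
    (h1 : mulC C CT = oneC) (h2 : mulC CT C = oneC) : GG :=
  ⟨dec C, dec CT, enc_injective (by rw [← mulC_enc, hC, hT, h1, enc_one]),
    enc_injective (by rw [← mulC_enc, hC, hT, h2, enc_one])⟩

theorem exists_unit {C CT : ℕ} (hC : enc (dec C) = C) (hT : enc (dec CT) = CT)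
    (h1 : mulC C CT = oneC) (h2 : mulC CT C = oneC) : ∃ g : GG, code g = C :=
  ⟨mkU C CT hC hT h1 h2, hC⟩

theorem exists_a : ∃ g : GG, code g = aC :=
  exists_unit (CT := aTC) (by decide +kernel) (by decide +kernel) (by decide +kernel)
    (by decide +kernel)

theorem exists_b : ∃ g : GG, code g = bC :=
  exists_unit (CT := bTC) (by decide +kernel) (by decide +kernel) (by decide +kernel)
    (by decide +kernel)

theorem exists_rep {j : ℕ} (hj : j < 5) : ∃ g : GG, code g = Rc j := by
  refine exists_unit (CT := repTTab.get j) ?_ ?_ ?_ ?_ <;> interval_cases j <;> decide +kernel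

theorem code_X : code Spor.jankoX = xC := by decide +kernel
theorem code_Y : code Spor.jankoY = yC := by decide +kernel

/-- Codes of the subgroup of order 660 close up. -/
theorem exists_subgroup :
    ∃ K : Subgroup GG, (∀ i, i < 660 → ∃ g ∈ K, code g = Hc i) ∧
      ∀ g ∈ K, ∃ i, i < 660 ∧ code g = Hc i := by
  obtain ⟨a, ha⟩ := exists_a
  obtain ⟨b, hb⟩ := exists_b
  refine ⟨Subgroup.closure {a, b}, ?_, ?_⟩
  · intro i
    induction i using Nat.strong_induction_on with
    | _ i ih =>
      intro hi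
      rcases par_ok hi with h | ⟨p, hp, h⟩
      · exact ⟨1, one_mem _, by rw [code_one, h]⟩
      · obtain ⟨g, hg, hgc⟩ := ih p hp (by omega)
        rcases h with h | h
        · exact ⟨g * a, mul_mem hg (Subgroup.subset_closure (by simp)),
            by rw [code_mul, hgc, ha, h]⟩
        · exact ⟨g * b, mul_mem hg (Subgroup.subset_closure (by simp)),
            by rw [code_mul, hgc, hb, h]⟩
  · intro g hg
    rw [← Subgroup.mem_toSubmonoid, Subgroup.closure_toSubmonoid_of_finite] at hg
    induction hg using Submonoid.closure_induction_right with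
    | one =>
      refine ⟨0, by norm_num, ?_⟩
      rcases par_ok (i := 0) (by norm_num) with h | ⟨p, hp, -⟩
      · rw [code_one, h]
      · omega
    | mul_right x _ y hy ih =>
      obtain ⟨i, hi, hx⟩ := ih
      obtain ⟨⟨t, ht, e⟩, ⟨t', ht', e'⟩⟩ := close_ok hi
      rcases hy with rfl | rfl
      · exact ⟨t, ht, by rw [code_mul, hx, ha, e]⟩
      · exact ⟨t', ht', by rw [code_mul, hx, hb, e']⟩

/-- Every element of `J₁` has one of the ten orders. -/
theorem orderOf_mem {g : GG} (hg : g ∈ Spor.J1) :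
    orderOf g ∈ [1, 2, 3, 5, 6, 7, 10, 11, 15, 19] := by
  obtain ⟨K, hK1, hK2⟩ := exists_subgroup
  -- every element is `h * r * h'`
  have hcos : ∀ c, c < 266 → ∃ r : GG, ∃ k ∈ K, ∃ j, j < 5 ∧ code r = Rc j ∧
      code (r * k) = cosC c := by
    intro c hc
    obtain ⟨⟨j, k, hj, hk, e⟩, -⟩ := coset_ok hc
    obtain ⟨r, hr⟩ := exists_rep hj
    obtain ⟨x, hx, hxc⟩ := hK1 k hk
    exact ⟨r, x, hx, j, hj, hr, by rw [code_mul, hr, hxc, e]⟩
  have main : ∃ h ∈ K, ∃ c, c < 266 ∧ ∀ R : GG, code R = cosC c → g = h * R := by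
    rw [Spor.J1, ← Subgroup.mem_toSubmonoid, Subgroup.closure_toSubmonoid_of_finite] at hg
    induction hg using Submonoid.closure_induction_right with
    | one =>
      refine ⟨1, one_mem _, 0, by norm_num, fun R hR => ?_⟩
      obtain ⟨h0, hh0, he0⟩ := hK1 0 (by norm_num)
      have hz := start_ok
      simp only [band_iff, natBeq_iff] at hz
      have e0 : h0 = 1 := code_injective (by
        rcases par_ok (i := 0) (by norm_num) with h | ⟨p, hp, -⟩
        · rw [he0, code_one, h]
        · omega)
      apply code_injective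
      rw [show (1 : GG) * R = h0 * R by rw [e0], code_mul, he0, hR, hz.1, code_one]
    | mul_right x _ y hy ih =>
      obtain ⟨h, hh, c, hc, hx⟩ := ih
      obtain ⟨r, k, hk, j, hj, -, hR⟩ := hcos c hc
      have hxe := hx _ hR
      obtain ⟨-, ⟨t, w, ht, hw, e⟩, ⟨t', w', ht', hw', e'⟩⟩ := coset_ok hc
      rcases hy with rfl | rfl
      · obtain ⟨hw0, hwK, hwc⟩ := hK1 w hw
        refine ⟨h * hw0, mul_mem hh hwK, t, ht, fun R hR' => ?_⟩
        rw [hxe, mul_assoc h, mul_assoc h]
        congr 1
        apply code_injective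
        rw [code_mul, code_mul hw0 R, hR, code_X, e, hwc, hR']
      · obtain ⟨hw0, hwK, hwc⟩ := hK1 w' hw'
        refine ⟨h * hw0, mul_mem hh hwK, t', ht', fun R hR' => ?_⟩
        rw [hxe, mul_assoc h, mul_assoc h]
        congr 1
        apply code_injective
        rw [code_mul, code_mul hw0 R, hR, code_Y, e', hwc, hR']
  obtain ⟨h, hh, c, hc, hgc⟩ := main
  obtain ⟨r, k, hk, j, hj, hr, hR⟩ := hcos c hc
  rw [hgc _ hR]
  have hconj : orderOf (h * (r * k)) = orderOf (r * (k * h)) := by
    have e : h * (r * k) = MulAut.conj h (r * (k * h)) := by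
      simp [MulAut.conj_apply, mul_assoc]
    rw [e]
    exact orderOf_injective (MulAut.conj h).toMonoidHom (MulAut.conj h).injective _
  obtain ⟨i, hi, hkh⟩ := hK2 _ (mul_mem hk hh)
  obtain ⟨o, ho, hpow⟩ := ord_ok hi hj
  have hdvd : orderOf (r * (k * h)) ∣ o := by
    apply orderOf_dvd_of_pow_eq_one
    apply code_injective
    rw [code_pow, code_mul, hr, hkh, hpow, code_one]
  rw [hconj]
  have hcl : ∀ o ∈ [1, 2, 3, 5, 6, 7, 10, 11, 15, 19], ∀ d < 20, d ∣ o →
      d ∈ [1, 2, 3, 5, 6, 7, 10, 11, 15, 19] := by decide +kernel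
  have ho20 : o < 20 := by simp at ho; omega
  exact hcl o ho _ (by
    have := Nat.le_of_dvd (by simp at ho; omega) hdvd
    omega) hdvd

theorem orderOf_of_powC {g : GG} {n : ℕ} (hn : 0 < n) (h : powC (code g) n = oneC)
    (h' : ∀ m, m < n → 0 < m → powC (code g) m ≠ oneC) : orderOf g = n := by
  rw [orderOf_eq_iff hn]
  refine ⟨code_injective (by rw [code_pow, code_one, h]), fun m hm hm0 he => h' m hm hm0 ?_⟩
  rw [← code_pow, he, code_one]

theorem X_mem : Spor.jankoX ∈ Spor.J1 := Subgroup.subset_closure (by simp)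
theorem Y_mem : Spor.jankoY ∈ Spor.J1 := Subgroup.subset_closure (by simp)

theorem exists_orderOf {n : ℕ} (hn : n ∈ [1, 2, 3, 5, 6, 7, 10, 11, 15, 19]) :
    ∃ g : Spor.J1, orderOf g = n := by
  have key : ∀ (g : GG), g ∈ Spor.J1 → ∀ m, orderOf g = m → ∃ g' : Spor.J1, orderOf g' = m :=
    fun g hg m hm => ⟨⟨g, hg⟩, by rw [← hm]; exact (Subgroup.orderOf_mk g hg)⟩
  have x := X_mem
  have y := Y_mem
  have o7 : orderOf Spor.jankoX = 7 :=
    orderOf_of_powC (by norm_num) (by decide +kernel) (by decide +kernel)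
  have o5 : orderOf Spor.jankoY = 5 :=
    orderOf_of_powC (by norm_num) (by decide +kernel) (by decide +kernel)
  have o10 : orderOf (Spor.jankoX * Spor.jankoY) = 10 :=
    orderOf_of_powC (by norm_num) (by decide +kernel) (by decide +kernel)
  have o11 : orderOf (Spor.jankoX * Spor.jankoY * Spor.jankoY) = 11 :=
    orderOf_of_powC (by norm_num) (by decide +kernel) (by decide +kernel)
  have o19 : orderOf (Spor.jankoX * Spor.jankoX * Spor.jankoX * Spor.jankoY) = 19 :=
    orderOf_of_powC (by norm_num) (by decide +kernel) (by decide +kernel)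
  have o6 : orderOf (Spor.jankoX * Spor.jankoY * Spor.jankoY * Spor.jankoY) = 6 :=
    orderOf_of_powC (by norm_num) (by decide +kernel) (by decide +kernel)
  have o15 : orderOf (Spor.jankoX * Spor.jankoX * Spor.jankoY * Spor.jankoY * Spor.jankoX
      * Spor.jankoY * Spor.jankoX * Spor.jankoY * Spor.jankoY) = 15 :=
    orderOf_of_powC (by norm_num) (by decide +kernel) (by decide +kernel)
  have m6 := mul_mem (mul_mem (mul_mem x y) y) y
  have o2 : orderOf ((Spor.jankoX * Spor.jankoY * Spor.jankoY * Spor.jankoY) ^ 3) = 2 := by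
    rw [orderOf_pow' _ (by norm_num), o6]; decide
  have o3 : orderOf ((Spor.jankoX * Spor.jankoY * Spor.jankoY * Spor.jankoY) ^ 2) = 3 := by
    rw [orderOf_pow' _ (by norm_num), o6]; decide
  simp only [List.mem_cons, List.not_mem_nil, or_false] at hn
  rcases hn with rfl | rfl | rfl | rfl | rfl | rfl | rfl | rfl | rfl | rfl
  · exact ⟨1, orderOf_one⟩
  · exact key _ (pow_mem m6 3) _ o2
  · exact key _ (pow_mem m6 2) _ o3
  · exact key _ y _ o5
  · exact key _ m6 _ o6
  · exact key _ x _ o7
  · exact key _ (mul_mem x y) _ o10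
  · exact key _ (mul_mem (mul_mem x y) y) _ o11
  · exact key _ (mul_mem (mul_mem (mul_mem (mul_mem (mul_mem (mul_mem (mul_mem (mul_mem x x) y) y)
      x) y) x) y) y) _ o15
  · exact key _ (mul_mem (mul_mem (mul_mem x x) x) y) _ o19

end CfsgLib.J1Orders
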