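import Mathlib
import Cfsg.Agent.Coset.Prim

/-!
7 × 7 matrices over `ZMod 11` packed in one natural number (49 fields of 24 bits), with a product
that the kernel evaluates by big-number arithmetic.
-/

set_option autoImplicit false

namespace CfsgLib.J1Orders

/-- Packing of `N` fields of 24 bits. -/
def P : ℕ → (ℕ → ℕ) → ℕ
  | 0, _ => 0
  | n+1, f => 2 ^ 24 * P n (fun t => f (t + 1)) + f 0

theorem P_congr : ∀ {N : ℕ} {f g : ℕ → ℕ}, (∀ t, t < N → f t = g t) → P N f = P N g
  | 0, _, _, _ => rfl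
  | n+1, f, g, h => by
    simp only [P]
    rw [P_congr (N := n) (f := fun t => f (t + 1)) (g := fun t => g (t + 1))
      (fun t ht => h _ (by omega)), h 0 (by omega)]

theorem P_add : ∀ (N : ℕ) (f g : ℕ → ℕ), P N f + P N g = P N (fun t => f t + g t)
  | 0, _, _ => rfl
  | n+1, f, g => by
    simp only [P]
    rw [← P_add n]
    ring

theorem P_smul (c : ℕ) : ∀ (N : ℕ) (f : ℕ → ℕ), P N f * c = P N (fun t => f t * c)
  | 0, _ => by simp [P]
  | n+1, f => by
    simp only [P]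
    rw [← P_smul c n]
    ring

theorem P_extend : ∀ (N k : ℕ) (f : ℕ → ℕ), (∀ t, N ≤ t → f t = 0) → P (N + k) f = P N f
  | 0, 0, _, _ => rfl
  | 0, k+1, f, h => by
    have hk := P_extend 0 k (fun t => f (t + 1)) (fun t _ => h _ (Nat.zero_le _))
    simp only [Nat.zero_add] at hk ⊢
    simp [P, hk, h 0 le_rfl]
  | n+1, k, f, h => by
    rw [Nat.succ_add]
    simp only [P]
    rw [P_extend n k (fun t => f (t + 1)) (fun t ht => h _ (by omega))]

theorem P_zero_div {a b : ℕ} (ha : a < 2 ^ 24) : (2 ^ 24 * b + a) / 2 ^ 24 = b := by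
  omega

theorem P_field : ∀ (N k : ℕ) (f : ℕ → ℕ), (∀ t, f t < 2 ^ 24) → k < N →
    P N f / 2 ^ (24 * k) % 2 ^ 24 = f k
  | n+1, 0, f, h, _ => by
    simp only [P, Nat.mul_zero, pow_zero, Nat.div_one]
    have := h 0
    omega
  | n+1, k+1, f, h, hk => by
    rw [P, Nat.mul_succ, Nat.add_comm (24 * k), pow_add, ← Nat.div_div_eq_div_mul,
      P_zero_div (h 0), P_field n k (fun t => f (t + 1)) (fun t => h _) (by omega)]

theorem P_shift : ∀ (k N : ℕ) (f : ℕ → ℕ), (∀ t, f t < 2 ^ 24) →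
    P (k + N) f >>> (24 * k) = P N (fun t => f (t + k))
  | 0, N, f, _ => by simp
  | k+1, N, f, h => by
    rw [Nat.succ_add, P, Nat.mul_succ, Nat.add_comm (24 * k), Nat.shiftRight_add,
      Nat.shiftRight_eq_div_pow (n := 24), P_zero_div (h 0), P_shift k N _ (fun t => h _)]
    exact P_congr fun t _ => rfl

theorem land_split (a b c d : ℕ) (ha : a < 2 ^ 24) (hc : c < 2 ^ 24) :
    (2 ^ 24 * b + a) &&& (2 ^ 24 * d + c) = 2 ^ 24 * (b &&& d) + (a &&& c) := by
  apply Nat.eq_of_testBit_eq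
  intro i
  have hac : a &&& c < 2 ^ 24 := lt_of_le_of_lt Nat.and_le_left ha
  rw [Nat.testBit_and, Nat.testBit_two_pow_mul_add _ ha, Nat.testBit_two_pow_mul_add _ hc,
    Nat.testBit_two_pow_mul_add _ hac]
  split <;> simp [Nat.testBit_and]

theorem P_land : ∀ (N : ℕ) (f g : ℕ → ℕ), (∀ t, f t < 2 ^ 24) → (∀ t, g t < 2 ^ 24) →
    P N f &&& P N g = P N (fun t => f t &&& g t)
  | 0, _, _, _, _ => by simp [P]
  | n+1, f, g, hf, hg => by
    simp only [P]
    rw [land_split _ _ _ _ (hf 0) (hg 0), P_land n _ _ (fun t => hf _) (fun t => hg _)]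

theorem P_shift13 : ∀ (N : ℕ) (f : ℕ → ℕ), (∀ t, f t < 2 ^ 20) →
    (P N f >>> 13) &&& P N (fun _ => 127) = P N (fun t => f t / 2 ^ 13)
  | 0, _, _ => by simp [P]
  | n+1, f, h => by
    simp only [P]
    set R := P n (fun t => f (t + 1)) with hR
    have h0 := h 0
    rw [Nat.shiftRight_eq_div_pow]
    have e : (2 ^ 24 * R + f 0) / 2 ^ 13
        = 2 ^ 24 * (R / 2 ^ 13) + (2 ^ 11 * (R % 2 ^ 13) + f 0 / 2 ^ 13) := by
      omega
    rw [e, land_split _ _ _ _ (by omega) (by norm_num), ← Nat.shiftRight_eq_div_pow, hR,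
      P_shift13 n _ (fun t => h _)]
    congr 1
    have h127 := Nat.and_two_pow_sub_one_eq_mod (2 ^ 11 * (R % 2 ^ 13) + f 0 / 2 ^ 13) 7
    norm_num at h127 ⊢
    rw [h127]
    omega

/-- Mask selecting the first column. -/
def colmask : ℕ := P 43 (fun t => if t % 7 = 0 then 16777215 else 0)

/-- Mask selecting the first row. -/
def rowmask : ℕ := P 7 (fun _ => 16777215)

/-- Seven low bits in every field. -/
def mask7 : ℕ := P 49 (fun _ => 127)

/-- One outer product. -/
def term (A B k : ℕ) : ℕ :=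
  Nat.mul (Nat.land (Nat.shiftRight A (Nat.mul 24 k)) colmask)
    (Nat.land (Nat.shiftRight B (Nat.mul 168 k)) rowmask)

/-- Fieldwise reduction modulo 11, for fields at most 700. -/
def reduce (X : ℕ) : ℕ :=
  Nat.sub X (Nat.mul (Nat.land (Nat.shiftRight (Nat.mul X 745) 13) mask7) 11)

/-- The product of packed matrices. -/
def mulC (A B : ℕ) : ℕ :=
  reduce (Nat.add (Nat.add (Nat.add (Nat.add (Nat.add (Nat.add (term A B 0) (term A B 1))
    (term A B 2)) (term A B 3)) (term A B 4)) (term A B 5)) (term A B 6))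

theorem outer (a b : ℕ → ℕ) :
    P 43 (fun t => if t % 7 = 0 then a (t / 7) else 0) * P 7 b
      = P 49 (fun t => a (t / 7) * b (t % 7)) := by
  simp [P]
  ring

theorem term_eq (f g : ℕ → ℕ) (hf : ∀ t, f t < 2 ^ 24) (hg : ∀ t, g t < 2 ^ 24) (k : ℕ)
    (hk : k < 7) :
    term (P 49 f) (P 49 g) k = P 49 (fun t => f (7 * (t / 7) + k) * g (7 * k + t % 7)) := by
  change ((P 49 f >>> (24 * k)) &&& colmask) * ((P 49 g >>> (168 * k)) &&& rowmask) = _
  have e1 : (P 49 f >>> (24 * k)) &&& colmask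
      = P 43 (fun t => if t % 7 = 0 then f (7 * (t / 7) + k) else 0) := by
    have c : colmask = P (49 - k) (fun t => if t % 7 = 0 ∧ t < 43 then 16777215 else 0) := by
      rw [show 49 - k = 43 + (6 - k) by omega,
        P_extend _ _ _ (fun t ht => if_neg (by omega))]
      exact P_congr fun t ht => by simp [ht]
    have s : P 49 f >>> (24 * k) = P (49 - k) (fun t => f (t + k)) := by
      conv_lhs => rw [show 49 = k + (49 - k) by omega]
      exact P_shift k _ f hf
    rw [c, s, P_land _ _ _ (fun t => hf _) (fun t => by split <;> norm_num),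
      show 49 - k = 43 + (6 - k) by omega,
      P_extend _ _ _ (fun t ht => by simp [show ¬ t < 43 by omega])]
    refine P_congr fun t ht => ?_
    by_cases h7 : t % 7 = 0
    · simp only [h7, ht, and_self, if_true]
      have := Nat.and_two_pow_sub_one_eq_mod (f (t + k)) 24
      norm_num at this
      rw [this, Nat.mod_eq_of_lt (by simpa using hf (t + k))]
      congr 1; omega
    · simp [h7]
  have e2 : (P 49 g >>> (168 * k)) &&& rowmask = P 7 (fun t => g (7 * k + t)) := by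
    have c : rowmask = P (49 - 7 * k) (fun t => if t < 7 then 16777215 else 0) := by
      rw [show 49 - 7 * k = 7 + (42 - 7 * k) by omega,
        P_extend _ _ _ (fun t ht => if_neg (by omega))]
      exact P_congr fun t ht => by simp [ht]
    have s : P 49 g >>> (168 * k) = P (49 - 7 * k) (fun t => g (t + 7 * k)) := by
      conv_lhs => rw [show 49 = 7 * k + (49 - 7 * k) by omega,
        show 168 * k = 24 * (7 * k) by omega]
      exact P_shift _ _ g hg
    rw [c, s, P_land _ _ _ (fun t => hg _) (fun t => by split <;> norm_num),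
      show 49 - 7 * k = 7 + (42 - 7 * k) by omega,
      P_extend _ _ _ (fun t ht => by simp [show ¬ t < 7 by omega])]
    refine P_congr fun t ht => ?_
    simp only [ht, if_true]
    have := Nat.and_two_pow_sub_one_eq_mod (g (t + 7 * k)) 24
    norm_num at this
    rw [this, Nat.mod_eq_of_lt (by simpa using hg (t + 7 * k)), Nat.add_comm]
  rw [e1, e2, outer (fun i => f (7 * i + k)) (fun t => g (7 * k + t))]

theorem mod11_magic : ∀ s : Fin 701, (s : ℕ) - (s * 745 / 2 ^ 13) * 11 = s % 11 ∧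
    (s * 745 / 2 ^ 13) * 11 ≤ (s : ℕ) := by
  decide +kernel

theorem reduce_eq (s : ℕ → ℕ) (hs : ∀ t, s t ≤ 700) :
    reduce (P 49 s) = P 49 (fun t => s t % 11) := by
  change P 49 s - ((P 49 s * 745) >>> 13 &&& mask7) * 11 = _
  rw [P_smul, mask7, P_shift13 _ _ (fun t => by have := hs t; omega), P_smul]
  have key : ∀ t, s t * 745 / 2 ^ 13 * 11 ≤ s t ∧ s t - s t * 745 / 2 ^ 13 * 11 = s t % 11 :=
    fun t => ⟨(mod11_magic ⟨s t, by have := hs t; omega⟩).2,
      (mod11_magic ⟨s t, by have := hs t; omega⟩).1⟩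
  rw [Nat.sub_eq_iff_eq_add]
  · rw [P_add]
    exact P_congr fun t _ => by have := key t; omega
  · have : P 49 (fun t => s t * 745 / 2 ^ 13 * 11) + P 49 (fun t => s t % 11) = P 49 s := by
      rw [P_add]
      exact P_congr fun t _ => by have := key t; omega
    omega

abbrev Mat := Matrix (Fin 7) (Fin 7) (ZMod 11)

/-- Entry `t` of a matrix, read row by row. -/
def ent (M : Mat) (t : ℕ) : ℕ :=
  (M ⟨t / 7 % 7, Nat.mod_lt _ (by norm_num)⟩ ⟨t % 7, Nat.mod_lt _ (by norm_num)⟩).val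

/-- The code of a matrix. -/
def enc (M : Mat) : ℕ := P 49 (ent M)

theorem ent_lt (M : Mat) (t : ℕ) : ent M t < 11 := ZMod.val_lt _

theorem enc_injective : Function.Injective enc := by
  intro M N h
  ext i j
  have hb : ∀ (K : Mat) (t : ℕ), ent K t < 2 ^ 24 := fun K t => by
    have := ent_lt K t; omega
  have h2 : ent M (7 * i + j) = ent N (7 * i + j) := by
    rw [← P_field 49 (7 * i + j) _ (hb M) (by omega), ← P_field 49 (7 * i + j) _ (hb N) (by omega)]
    rw [show P 49 (ent M) = P 49 (ent N) from h]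
  simp only [ent] at h2
  have ei : (⟨(7 * (i : ℕ) + j) / 7 % 7, Nat.mod_lt _ (by norm_num)⟩ : Fin 7) = i := by
    ext; simp only; omega
  have ej : (⟨(7 * (i : ℕ) + j) % 7, Nat.mod_lt _ (by norm_num)⟩ : Fin 7) = j := by
    ext; simp only; omega
  rw [ei, ej] at h2
  exact ZMod.val_injective 11 h2

theorem mulC_enc (M N : Mat) : mulC (enc M) (enc N) = enc (M * N) := by
  have hb : ∀ (K : Mat) (t : ℕ), ent K t < 2 ^ 24 := fun K t => by
    have := ent_lt K t; omega
  change reduce (term _ _ 0 + term _ _ 1 + term _ _ 2 + term _ _ 3 + term _ _ 4 + term _ _ 5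
    + term _ _ 6) = _
  simp only [enc]
  rw [term_eq _ _ (hb M) (hb N) 0 (by norm_num), term_eq _ _ (hb M) (hb N) 1 (by norm_num),
    term_eq _ _ (hb M) (hb N) 2 (by norm_num), term_eq _ _ (hb M) (hb N) 3 (by norm_num),
    term_eq _ _ (hb M) (hb N) 4 (by norm_num), term_eq _ _ (hb M) (hb N) 5 (by norm_num),
    term_eq _ _ (hb M) (hb N) 6 (by norm_num)]
  simp only [P_add]
  have hbd : ∀ a b : ℕ, ent M a * ent N b ≤ 100 := fun a b =>
    Nat.mul_le_mul (Nat.le_of_lt_succ (ent_lt M a)) (Nat.le_of_lt_succ (ent_lt N b))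
  rw [reduce_eq]
  · refine P_congr fun t ht => ?_
    have key : ∀ (K : Mat) (i j : Fin 7), ((ent K (7 * i + j) : ℕ) : ZMod 11) = K i j := by
      intro K i j
      simp only [ent, ZMod.natCast_val, ZMod.cast_id', id]
      have e1 : (⟨(7 * (i : ℕ) + j) / 7 % 7, Nat.mod_lt _ (by norm_num)⟩ : Fin 7) = i :=
        Fin.ext (by simp only; omega)
      have e2 : (⟨(7 * (i : ℕ) + j) % 7, Nat.mod_lt _ (by norm_num)⟩ : Fin 7) = j :=
        Fin.ext (by simp only; omega)
      rw [e1, e2]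
    have hi : t / 7 < 7 := by omega
    have hj : t % 7 < 7 := by omega
    have e : ((ent (M * N) t : ℕ) : ZMod 11) = (M * N) ⟨t / 7, hi⟩ ⟨t % 7, hj⟩ := by
      rw [← key (M * N) ⟨t / 7, hi⟩ ⟨t % 7, hj⟩]
      simp only [Nat.div_add_mod]
    rw [Matrix.mul_apply, Fin.sum_univ_seven, ← key M ⟨t / 7, hi⟩ 0, ← key M ⟨t / 7, hi⟩ 1,
      ← key M ⟨t / 7, hi⟩ 2, ← key M ⟨t / 7, hi⟩ 3, ← key M ⟨t / 7, hi⟩ 4,
      ← key M ⟨t / 7, hi⟩ 5, ← key M ⟨t / 7, hi⟩ 6, ← key N 0 ⟨t % 7, hj⟩,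
      ← key N 1 ⟨t % 7, hj⟩, ← key N 2 ⟨t % 7, hj⟩, ← key N 3 ⟨t % 7, hj⟩, ← key N 4 ⟨t % 7, hj⟩,
      ← key N 5 ⟨t % 7, hj⟩, ← key N 6 ⟨t % 7, hj⟩] at e
    simp only [Fin.isValue, Fin.val_zero, Fin.val_one, Fin.val_two, Fin.coe_ofNat_eq_mod] at e
    norm_num at e
    norm_num
    have h := congrArg ZMod.val e
    rw [ZMod.val_natCast, Nat.mod_eq_of_lt (ent_lt _ _)] at h
    rw [h, ← ZMod.val_natCast (n := 11)]
    push_cast
    rfl
  · intro t
    have := hbd (7 * (t / 7) + 0) (7 * 0 + t % 7)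
    have := hbd (7 * (t / 7) + 1) (7 * 1 + t % 7)
    have := hbd (7 * (t / 7) + 2) (7 * 2 + t % 7)
    have := hbd (7 * (t / 7) + 3) (7 * 3 + t % 7)
    have := hbd (7 * (t / 7) + 4) (7 * 4 + t % 7)
    have := hbd (7 * (t / 7) + 5) (7 * 5 + t % 7)
    have := hbd (7 * (t / 7) + 6) (7 * 6 + t % 7)
    omega

end CfsgLib.J1Orders
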